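import Cfsg.Agent.Extra2.Transfer
import Cfsg.Agent.Fusion.Extraspecial
import Cfsg.Agent.Fusion.Residual

/-!
The transfer of a `Z/2`-valued character of the centraliser of an involution with
extraspecial two-core.
-/

set_option autoImplicit false
set_option linter.unusedSectionVars false

namespace Cfsg.Agent.Extra2

open Subgroup
open scoped commutatorElement Pointwise

variable {G : Type*} [Group G] [Finite G]

/-- An extraspecial self-centralising normal two-subgroup of the centraliser of `z`. -/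
structure Data (z : G) (E : Subgroup G) : Prop where
  z1 : z ≠ 1
  z2 : z * z = 1
  ext : Cfsg.IsExtraspecial 2 E
  le : E ≤ centralizer ({z} : Set G)
  normal : ∀ h ∈ centralizer ({z} : Set G), ∀ e ∈ E, h * e * h⁻¹ ∈ E
  mem : z ∈ E
  cent : centralizer (E : Set G) ≤ E

theorem data_of_pCore (z : G) (hz : orderOf z = 2) (E : Subgroup G)
    (hE : E = (Cfsg.pCore 2 ↥(centralizer ({z} : Set G))).map (centralizer ({z} : Set G)).subtype)
    (hext : Cfsg.IsExtraspecial 2 E) (hcent : centralizer (E : Set G) ≤ E) : Data z E := by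
  have hle : E ≤ centralizer ({z} : Set G) := hE.trans_le (map_subtype_le _)
  refine ⟨fun h => by simp [h] at hz, ?_, hext, hle, ?_, hcent (mem_centralizer_iff.mpr fun e he =>
    mem_centralizer_singleton_iff.mp (hle he)), hcent⟩
  · rw [← pow_two, ← hz]; exact pow_orderOf_eq_one z
  · intro h hh e he
    rw [hE] at he ⊢
    obtain ⟨e', he', rfl⟩ := he
    exact ⟨⟨h, hh⟩ * e' * ⟨h, hh⟩⁻¹,
      (inferInstance : (Cfsg.pCore 2 (centralizer ({z} : Set G))).Normal).conj_mem e' he' ⟨h, hh⟩, rfl⟩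

namespace Data

variable {z : G} {E : Subgroup G} (d : Data z E)
include d

theorem zc {h : G} (hh : h ∈ centralizer ({z} : Set G)) : h * z = z * h :=
  mem_centralizer_singleton_iff.mp hh

theorem center_mem {e : E} (he : e ∈ center E) : (e : G) = 1 ∨ (e : G) = z := by
  have hzZ : (⟨z, d.mem⟩ : E) ∈ center E :=
    mem_center_iff.mpr fun x => Subtype.ext (d.zc (d.le x.2))
  have hne : (⟨z, d.mem⟩ : E) ≠ 1 := fun h => d.z1 (congrArg Subtype.val h)
  rw [← Fusion.es_center_zpowers d.ext hzZ hne] at he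
  obtain ⟨i, rfl⟩ := he
  have hord : orderOf z = 2 := orderOf_eq_prime (by rw [pow_two, d.z2]) d.z1
  rcases Int.emod_two_eq_zero_or_one i with h | h <;> simp only [SubgroupClass.coe_zpow]
  · left; rw [← zpow_mod_orderOf, hord]; simp [h]
  · right; rw [← zpow_mod_orderOf, hord]; simp [h]

theorem sq {e : G} (he : e ∈ E) : e * e = 1 ∨ e * e = z := by
  simpa [pow_two] using d.center_mem (Fusion.es_pow_mem_center d.ext ⟨e, he⟩)

theorem comm {a b : G} (ha : a ∈ E) (hb : b ∈ E) :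
    a⁻¹ * b⁻¹ * a * b = 1 ∨ a⁻¹ * b⁻¹ * a * b = z := by
  simpa [commutatorElement_def] using
    d.center_mem (Fusion.es_commutator_mem d.ext (⟨a, ha⟩⁻¹ : E) (⟨b, hb⟩⁻¹ : E))

theorem anti {a b : G} (ha : a ∈ E) (hb : b ∈ E) (h : a * b ≠ b * a) : a * b = z * (b * a) := by
  rcases d.comm ha hb with h' | h'
  · exact absurd (by rw [show a * b = b * a * (a⁻¹ * b⁻¹ * a * b) by group, h', mul_one]) h
  · rw [← d.zc (d.le (E.mul_mem hb ha)), ← h']; group

theorem central {w : G} (hw : w ∈ E) (h : ∀ e ∈ E, e * w = w * e) : w = 1 ∨ w = z :=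
  d.center_mem (e := ⟨w, hw⟩) (mem_center_iff.mpr fun e => Subtype.ext (h e e.2))

/-- Two elements anticommuting with `y` have a product commuting with it. -/
theorem prod_comm {y a b : G} (hy : y ∈ E) (ha : a ∈ E) (hb : b ∈ E) (h1 : a * y ≠ y * a)
    (h2 : b * y ≠ y * b) : (a * b) * y = y * (a * b) := by
  calc a * b * y = a * (z * (y * b)) := by rw [mul_assoc, d.anti hb hy h2]
    _ = (a * z) * y * b := by group
    _ = z * (a * y) * b := by rw [d.zc (d.le ha)]; group
    _ = z * (z * (y * a)) * b := by rw [d.anti ha hy h1]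
    _ = (z * z) * (y * (a * b)) := by group
    _ = y * (a * b) := by rw [d.z2, one_mul]

/-- An involution whose centraliser in `E` has index at most two lies in `E`. -/
theorem mem_of_index_two {w : G} (hw : w ∈ centralizer ({z} : Set G)) (hw2 : w * w = 1) {e : G}
    (he : e ∈ E) (hcover : ∀ x ∈ E, x * w = w * x ∨ (e⁻¹ * x) * w = w * (e⁻¹ * x)) : w ∈ E := by
  have hwinv : w⁻¹ = w := inv_eq_of_mul_eq_one_left hw2
  by_cases hew : e * w = w * e
  · refine d.cent (mem_centralizer_iff.mpr fun x hx => ?_)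
    rcases hcover x hx with h | h
    · exact h
    · simpa [mul_assoc] using ((show Commute e w from hew).mul_left h).eq
  set a := w * e * w⁻¹ with ha
  have haE : a ∈ E := d.normal w hw e he
  set f := e⁻¹ * a with hf
  have hfE : f ∈ E := E.mul_mem (E.inv_mem he) haE
  have hea : w * a * w⁻¹ = e := by
    calc w * a * w⁻¹ = (w * w) * e * (w * w)⁻¹ := by rw [ha]; group
      _ = e := by rw [hw2]; group
  have haw : ¬ a * w = w * a := by
    intro h
    apply hew
    have h' : Commute a w := h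
    rw [show e = w * a * w⁻¹ from hea.symm, ← h, mul_inv_cancel_right]
    exact h
  have hfw : f * w = w * f := by
    rcases hcover a haE with h | h
    · exact absurd h haw
    · exact h
  have hff : f * f = 1 := by
    have h1 : w * f * w⁻¹ = f := by rw [← hfw, mul_inv_cancel_right]
    have h2 : e * (f * f) = e * 1 := by
      calc e * (f * f) = a * (w * f * w⁻¹) := by rw [h1, hf]; group
        _ = w * (e * f) * w⁻¹ := by rw [ha]; group
        _ = w * a * w⁻¹ := by rw [hf]; group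
        _ = e * 1 := by rw [hea, mul_one]
    exact mul_left_cancel h2
  have hfc : ∀ x ∈ E, x * w = w * x → f * x = x * f := by
    intro x hx hxw
    have hexw : (e * x * e⁻¹) * w = w * (e * x * e⁻¹) := by
      rcases d.comm (E.inv_mem hx) (E.inv_mem he) with h' | h'
      · rw [inv_inv, inv_inv] at h'
        have : e * x * e⁻¹ = x := by
          calc e * x * e⁻¹ = (x * e * x⁻¹ * e⁻¹)⁻¹ * x := by group
            _ = x := by rw [h', inv_one, one_mul]
        rw [this, hxw]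
      · rw [inv_inv, inv_inv] at h'
        have : e * x * e⁻¹ = z * x := by
          calc e * x * e⁻¹ = (x * e * x⁻¹ * e⁻¹)⁻¹ * x := by group
            _ = z * x := by rw [h', inv_eq_of_mul_eq_one_left d.z2]
        rw [this]
        calc z * x * w = z * (x * w) := mul_assoc _ _ _
          _ = (z * w) * x := by rw [hxw, mul_assoc]
          _ = w * (z * x) := by rw [← d.zc hw, mul_assoc]
    have h1 : w * x * w⁻¹ = x := by rw [← hxw, mul_inv_cancel_right]
    have h2 : w * (e * x * e⁻¹) * w⁻¹ = e * x * e⁻¹ := by rw [← hexw, mul_inv_cancel_right]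
    have h3 : a * x * a⁻¹ = e * x * e⁻¹ := by
      calc a * x * a⁻¹ = a * (w * x * w⁻¹) * a⁻¹ := by rw [h1]
        _ = w * (e * x * e⁻¹) * w⁻¹ := by rw [ha]; group
        _ = e * x * e⁻¹ := h2
    calc f * x = e⁻¹ * (a * x * a⁻¹) * a := by rw [hf]; group
      _ = e⁻¹ * (e * x * e⁻¹) * a := by rw [h3]
      _ = x * f := by rw [hf]; group
  have hfe : f * e = e * f := by
    by_contra hne
    have h1 := d.anti hfE he hne
    have hsq : a * a = e * e := by
      rcases d.sq he with h | h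
      · calc a * a = w * (e * e) * w⁻¹ := by rw [ha]; group
          _ = e * e := by rw [h]; group
      · calc a * a = w * (e * e) * w⁻¹ := by rw [ha]; group
          _ = e * e := by rw [h, d.zc hw, mul_inv_cancel_right]
    refine d.z1 ?_
    have h2 : z * (e * e) = 1 * (e * e) := by
      calc z * (e * e) = (e * z) * (e * (f * f)) := by rw [hff, mul_one, d.zc (d.le he), mul_assoc]
        _ = e * (z * (e * f)) * f := by group
        _ = e * (f * e) * f := by rw [h1]
        _ = a * a := by rw [hf]; group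
        _ = 1 * (e * e) := by rw [hsq, one_mul]
    exact mul_right_cancel h2
  have hfcentral : f = 1 ∨ f = z := d.central hfE fun x hx => by
    rcases hcover x hx with h | h
    · exact (hfc x hx h).symm
    · have h3 := hfc _ (E.mul_mem (E.inv_mem he) hx) h
      have h4 : Commute f (e * (e⁻¹ * x)) := (show Commute f e from hfe).mul_right h3
      simpa using h4.symm.eq
  -- conjugation by `w` is `x ↦ x * χ x`
  let χ : E →* E := MonoidHom.mk' (fun x => ⟨(x : G)⁻¹ * (w * x * w⁻¹),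
    E.mul_mem (E.inv_mem x.2) (d.normal w hw x x.2)⟩) (by
      have hz' : ∀ x ∈ E, x⁻¹ * (w * x * w⁻¹) = 1 ∨ x⁻¹ * (w * x * w⁻¹) = z := by
        intro x hx
        rcases hcover x hx with h | h
        · left; rw [← h, mul_inv_cancel_right, inv_mul_cancel]
        · have h' : w * (e⁻¹ * x) * w⁻¹ = e⁻¹ * x := by rw [← h, mul_inv_cancel_right]
          have : x⁻¹ * (w * x * w⁻¹) = (e⁻¹ * x)⁻¹ * f * (e⁻¹ * x) := by
            calc x⁻¹ * (w * x * w⁻¹) = x⁻¹ * a * (w * (e⁻¹ * x) * w⁻¹) := by rw [ha]; group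
              _ = x⁻¹ * a * (e⁻¹ * x) := by rw [h']
              _ = _ := by rw [hf]; group
          rw [this]
          rcases hfcentral with h'' | h''
          · left; rw [h'']; group
          · right
            rw [h'', mul_assoc, ← d.zc (d.le (E.mul_mem (E.inv_mem he) hx)), inv_mul_cancel_left]
      intro x y
      apply Subtype.ext
      show ((x * y : E) : G)⁻¹ * (w * (x * y : E) * w⁻¹) = _
      rw [Subgroup.coe_mul, Subgroup.coe_mul]
      show ((x : G) * y)⁻¹ * (w * (x * y) * w⁻¹) = (x : G)⁻¹ * (w * x * w⁻¹) * ((y : G)⁻¹ * (w * y * w⁻¹))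
      have hc : (x : G)⁻¹ * (w * x * w⁻¹) * (y : G)⁻¹ = (y : G)⁻¹ * ((x : G)⁻¹ * (w * x * w⁻¹)) := by
        rcases hz' x x.2 with h | h <;> rw [h]
        · group
        · exact (d.zc (d.le (E.inv_mem y.2))).symm
      rw [← mul_assoc _ (y : G)⁻¹, hc]
      group)
  have hχ : ∀ x : E, χ x ∈ center E := by
    intro x
    refine mem_center_iff.mpr fun y => Subtype.ext ?_
    show (y : G) * ((x : G)⁻¹ * (w * x * w⁻¹)) = (x : G)⁻¹ * (w * x * w⁻¹) * y
    rcases hcover x x.2 with h | h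
    · rw [← h, mul_inv_cancel_right, inv_mul_cancel, one_mul, mul_one]
    · have h' : w * (e⁻¹ * x) * w⁻¹ = e⁻¹ * x := by rw [← h, mul_inv_cancel_right]
      have : (x : G)⁻¹ * (w * x * w⁻¹) = (e⁻¹ * x)⁻¹ * f * (e⁻¹ * x) := by
        calc (x : G)⁻¹ * (w * x * w⁻¹) = (x : G)⁻¹ * a * (w * (e⁻¹ * x) * w⁻¹) := by rw [ha]; group
          _ = (x : G)⁻¹ * a * (e⁻¹ * x) := by rw [h']
          _ = _ := by rw [hf]; group
      rcases hfcentral with h'' | h''
      · rw [this, h'']; group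
      · rw [this, h'', mul_assoc (e⁻¹ * (x : G))⁻¹,
          ← d.zc (d.le (E.mul_mem (E.inv_mem he) x.2)), inv_mul_cancel_left, d.zc (d.le y.2)]
  have hχZ : ∀ x ∈ center E, χ x = 1 := by
    intro x hx
    apply Subtype.ext
    show (x : G)⁻¹ * (w * x * w⁻¹) = 1
    rcases d.center_mem hx with h | h
    · rw [h]; group
    · rw [h, d.zc hw, mul_inv_cancel_right, inv_mul_cancel]
  obtain ⟨u, -, hu⟩ := Fusion.es_hom_eq_commutator d.ext χ hχ hχZ ⊤ le_top Fusion.es_top_nondeg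
  have hconj : ∀ x ∈ E, w * x * w⁻¹ = (u : G) * x * (u : G)⁻¹ := by
    intro x hx
    have h1 := hu ⟨x, hx⟩ (mem_top _)
    have h2 : x⁻¹ * (w * x * w⁻¹) = (u : G) * x * (u : G)⁻¹ * x⁻¹ := by
      simpa [χ, commutatorElement_def] using congrArg Subtype.val h1
    have h3 : x * (x⁻¹ * (w * x * w⁻¹)) = (x⁻¹ * (w * x * w⁻¹)) * x := by
      simpa [χ] using congrArg Subtype.val (mem_center_iff.mp (hχ ⟨x, hx⟩) ⟨x, hx⟩)
    calc w * x * w⁻¹ = x * (x⁻¹ * (w * x * w⁻¹)) := by group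
      _ = (x⁻¹ * (w * x * w⁻¹)) * x := h3
      _ = _ := by rw [h2]; group
  have : (u : G)⁻¹ * w ∈ E := d.cent (mem_centralizer_iff.mpr fun x hx => by
    calc x * ((u : G)⁻¹ * w) = (u : G)⁻¹ * ((u : G) * x * (u : G)⁻¹) * w := by group
      _ = (u : G)⁻¹ * (w * x * w⁻¹) * w := by rw [hconj x hx]
      _ = (u : G)⁻¹ * w * x := by group)
  simpa using E.mul_mem u.2 this

/-- An abelian centraliser covering `E` with four translates forces `|E| ≤ 32`. -/
theorem card_le_of_abelian {w : G} {e₁ e₂ : G} (he₁ : e₁ ∈ E) (he₂ : e₂ ∈ E)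
    (hcover : ∀ x ∈ E, x * w = w * x ∨ (e₁⁻¹ * x) * w = w * (e₁⁻¹ * x) ∨
      (e₂⁻¹ * x) * w = w * (e₂⁻¹ * x) ∨ (e₁⁻¹ * (e₂⁻¹ * x)) * w = w * (e₁⁻¹ * (e₂⁻¹ * x)))
    (hab : ∀ a ∈ E, ∀ b ∈ E, a * w = w * a → b * w = w * b → a * b = b * a) :
    Nat.card E ≤ 32 := by
  classical
  set D : Set G := {x | x ∈ E ∧ x * w = w * x} with hD
  have := Fintype.ofFinite G
  -- elements of `D` commuting with both translates are central
  have hker : ∀ a ∈ D, a * e₁ = e₁ * a → a * e₂ = e₂ * a → a = 1 ∨ a = z := by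
    rintro a ⟨ha, haw⟩ h1 h2
    refine d.central ha fun x hx => ?_
    have c1 : Commute a e₁ := h1
    have c2 : Commute a e₂ := h2
    rcases hcover x hx with h | h | h | h
    · exact hab x hx a ha h haw
    · have h3 : Commute a (e₁⁻¹ * x) := hab a ha _ (E.mul_mem (E.inv_mem he₁) hx) haw h
      simpa [mul_assoc] using (c1.mul_right h3).symm.eq
    · have h3 : Commute a (e₂⁻¹ * x) := hab a ha _ (E.mul_mem (E.inv_mem he₂) hx) haw h
      simpa [mul_assoc] using (c2.mul_right h3).symm.eq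
    · have h3 : Commute a (e₁⁻¹ * (e₂⁻¹ * x)) :=
        hab a ha _ (E.mul_mem (E.inv_mem he₁) (E.mul_mem (E.inv_mem he₂) hx)) haw h
      simpa [mul_assoc] using (c2.mul_right (c1.mul_right h3)).symm.eq
  let key : G → Bool × Bool := fun a => (decide (a * e₁ = e₁ * a), decide (a * e₂ = e₂ * a))
  have hDcard : D.toFinset.card ≤ 2 * 4 := by
    refine (Finset.card_le_mul_card_image (f := key) D.toFinset 2 fun k _ => ?_).trans
      (Nat.mul_le_mul_left 2 ((Finset.card_le_univ _).trans (by simp)))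
    rcases Finset.eq_empty_or_nonempty (D.toFinset.filter (fun a => key a = k)) with h | ⟨a, ha⟩
    · rw [h]; simp
    refine (Finset.card_le_card (t := {a * 1, a * z}) ?_).trans Finset.card_le_two
    intro b hb
    simp only [Finset.mem_filter, Set.mem_toFinset] at ha hb
    have hkey : key b = key a := hb.2.trans ha.2.symm
    simp only [key, Prod.mk.injEq, decide_eq_decide] at hkey
    have haE := ha.1.1
    have hbE := hb.1.1
    have hD' : a⁻¹ * b ∈ D := ⟨E.mul_mem (E.inv_mem haE) hbE,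
      ((show Commute a w from ha.1.2).inv_left.mul_left (show Commute b w from hb.1.2)).eq⟩
    have hc : ∀ y ∈ E, (b * y = y * b ↔ a * y = y * a) → a⁻¹ * b * y = y * (a⁻¹ * b) := by
      intro y hy hiff
      by_cases h : a * y = y * a
      · exact ((show Commute a y from h).inv_left.mul_left (show Commute b y from hiff.mpr h)).eq
      · refine d.prod_comm hy (E.inv_mem haE) hbE (fun h' => h ?_) (fun h' => h (hiff.mp h'))
        simpa using (show Commute a⁻¹ y from h').inv_left.eq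
    simp only [Finset.mem_insert, Finset.mem_singleton]
    rcases hker _ hD' (hc e₁ he₁ hkey.1) (hc e₂ he₂ hkey.2) with h | h
    · left; rw [← h, mul_inv_cancel_left]
    · right; rw [← h, mul_inv_cancel_left]
  have hsub : (E : Set G).toFinset ⊆ D.toFinset ∪ D.toFinset.image (e₁ * ·) ∪
      (D.toFinset.image (e₂ * ·) ∪ D.toFinset.image (fun a => e₂ * (e₁ * a))) := by
    intro x hx
    rw [Set.mem_toFinset] at hx
    simp only [Finset.mem_union, Finset.mem_image, Set.mem_toFinset, hD, Set.mem_ofPred_eq]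
    rcases hcover x hx with h | h | h | h
    · exact Or.inl (Or.inl ⟨hx, h⟩)
    · exact Or.inl (Or.inr ⟨_, ⟨E.mul_mem (E.inv_mem he₁) hx, h⟩, by group⟩)
    · exact Or.inr (Or.inl ⟨_, ⟨E.mul_mem (E.inv_mem he₂) hx, h⟩, by group⟩)
    · exact Or.inr (Or.inr ⟨_, ⟨E.mul_mem (E.inv_mem he₁) (E.mul_mem (E.inv_mem he₂) hx), h⟩,
        by group⟩)
  have h1 := Finset.card_le_card hsub
  have h2 := Finset.card_union_le (D.toFinset ∪ D.toFinset.image (e₁ * ·))
    (D.toFinset.image (e₂ * ·) ∪ D.toFinset.image (fun a => e₂ * (e₁ * a)))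
  have h3 := Finset.card_union_le D.toFinset (D.toFinset.image (e₁ * ·))
  have h4 := Finset.card_union_le (D.toFinset.image (e₂ * ·))
    (D.toFinset.image (fun a => e₂ * (e₁ * a)))
  have h5 := Finset.card_image_le (s := D.toFinset) (f := (e₁ * ·))
  have h6 := Finset.card_image_le (s := D.toFinset) (f := (e₂ * ·))
  have h7 := Finset.card_image_le (s := D.toFinset) (f := fun a => e₂ * (e₁ * a))
  have h8 : Nat.card E = (E : Set G).toFinset.card := by
    rw [Nat.card_eq_fintype_card, Set.toFinset_card]; rfl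
  omega

/-- A noncentral element of `E` with abelian centraliser of index two: that centraliser consists
of involutions. -/
theorem sq_of_abelian {w : G} (hw : w ∈ E) (hw2 : w * w = 1) {e : G} (he : e ∈ E)
    (hew : e * w ≠ w * e)
    (hcover : ∀ x ∈ E, x * w = w * x ∨ (e⁻¹ * x) * w = w * (e⁻¹ * x))
    (hab : ∀ a ∈ E, ∀ b ∈ E, a * w = w * a → b * w = w * b → a * b = b * a)
    {x : G} (hx : x ∈ E) (hxw : x * w = w * x) : x * x = 1 := by
  have hker : ∀ a ∈ E, a * w = w * a → a * e = e * a → a = 1 ∨ a = z := by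
    intro a ha haw hae
    refine d.central ha fun y hy => ?_
    rcases hcover y hy with h | h
    · exact hab y hy a ha h haw
    · have h3 : Commute a (e⁻¹ * y) := hab a ha _ (E.mul_mem (E.inv_mem he) hy) haw h
      simpa [mul_assoc] using ((show Commute a e from hae).mul_right h3).symm.eq
  by_cases hxe : x * e = e * x
  · rcases hker x hx hxw hxe with h | h <;> simp [h, d.z2]
  · have h1 := hker (x * w) (E.mul_mem hx hw) (by rw [hxw, mul_assoc, hxw])
      (d.prod_comm he hx hw hxe (fun h => hew h.symm))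
    rcases h1 with h | h
    · rw [eq_inv_of_mul_eq_one_left h, inv_eq_of_mul_eq_one_left hw2, hw2]
    · have hx' : x = z * w := by rw [← h, mul_assoc, hw2, mul_one]
      calc x * x = z * (w * z) * w := by rw [hx']; group
        _ = z * (z * w) * w := by rw [d.zc (d.le hw)]
        _ = (z * z) * (w * w) := by group
        _ = 1 := by rw [d.z2, hw2, one_mul]

end Data

/-- The subgroup `U ∪ eU`. -/
def stageSup (U : Subgroup G) (e : G) (hn : ∀ x ∈ U, e⁻¹ * x * e ∈ U) (he : e * e ∈ U) :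
    Subgroup G where
  carrier := {x | x ∈ U ∨ e⁻¹ * x ∈ U}
  one_mem' := Or.inl U.one_mem
  mul_mem' := by
    intro a b ha hb
    have hn' : ∀ x ∈ U, e * x * e⁻¹ ∈ U := fun x hx => by
      have h1 := hn _ (U.mul_mem (U.mul_mem (U.inv_mem (U.inv_mem he)) hx) (U.inv_mem he))
      simpa [mul_assoc] using h1
    rcases ha with ha | ha <;> rcases hb with hb | hb
    · exact Or.inl (U.mul_mem ha hb)
    · right; simpa [mul_assoc] using U.mul_mem (hn a ha) hb
    · right; simpa [mul_assoc] using U.mul_mem ha hb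
    · left
      have := U.mul_mem (hn' _ ha) (U.mul_mem he hb)
      simpa [mul_assoc] using this
  inv_mem' := by
    intro a ha
    rcases ha with ha | ha
    · exact Or.inl (U.inv_mem ha)
    · right
      have := U.mul_mem (hn _ (U.inv_mem ha)) (U.inv_mem he)
      simpa [mul_assoc] using this

omit [Finite G] in
theorem mem_stageSup {U : Subgroup G} {e : G} {hn : ∀ x ∈ U, e⁻¹ * x * e ∈ U} {he : e * e ∈ U}
    {x : G} : x ∈ stageSup U e hn he ↔ x ∈ U ∨ e⁻¹ * x ∈ U := Iff.rfl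

variable {A : Type*} [CommGroup A]

omit [Finite G] in
theorem mul_self_cancel (hA : ∀ a : A, a * a = 1) {f : G → A} {U : Subgroup G} (hf : HomOn f U)
    {x y : G} (hx : x ∈ U) (hy : y ∈ U) : f x * f y = f (x⁻¹ * y) := by
  rw [hf _ (U.inv_mem hx) _ hy, hf.map_inv hx, inv_eq_of_mul_eq_one_left (hA (f x))]

/-- A stage killing `f` kills the whole transfer. -/
theorem tr_eq_one_of_stage {U W S : Subgroup G} (hUW : U ≤ W) (hWS : W ≤ S) {f : G → A}
    (hf : HomOn f U) (h1 : ∀ x ∈ W, tr U W f x = 1) {h : G} (hh : h ∈ S) : tr U S f h = 1 := by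
  classical
  have := Fintype.ofFinite (S ⧸ W.subgroupOf S)
  rw [tr_trans hUW hWS hf hh, tr_eq homOn_tr hh (fun q => q.out) QuotientGroup.out_eq']
  refine Finset.prod_eq_one fun q _ => h1 _ ?_
  have h2 : ((⟨h, hh⟩ : S) • q) = ((⟨h, hh⟩ * q.out : S) : S ⧸ W.subgroupOf S) := by
    conv_lhs => rw [← QuotientGroup.out_eq' q]
    rfl
  have := QuotientGroup.eq.mp ((QuotientGroup.out_eq' _).trans h2)
  simpa [mem_subgroupOf, mul_assoc] using this

/-- An element of `E` outside `U` normalising `U`. -/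
theorem exists_step {S U E : Subgroup G} (hS : IsPGroup 2 S) (hES : E ≤ S) (hUS : U ≤ S)
    (hEn : ∀ u ∈ U, ∀ e ∈ E, u * e * u⁻¹ ∈ E) (hEU : ¬ E ≤ U) :
    ∃ e ∈ E, e ∉ U ∧ ∀ x ∈ U, e⁻¹ * x * e ∈ U := by
  set P := U ⊔ E with hP
  have hP2 : IsPGroup 2 P := hS.to_le (sup_le hUS hES)
  have hlt : U.subgroupOf P < ⊤ := by
    refine lt_top_iff_ne_top.mpr fun h => hEU ?_
    rw [subgroupOf_eq_top] at h
    exact le_sup_right.trans h
  have := hP2.isNilpotent
  obtain ⟨⟨y, hyP⟩, hyN, hyU⟩ := SetLike.exists_of_lt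
    (Group.normalizerCondition_of_isNilpotent (G := P) _ hlt)
  have hUN : U ≤ normalizer (E : Set G) := by
    intro u hu
    rw [mem_normalizer_iff]
    intro e
    refine ⟨fun he => hEn u hu e he, fun he => ?_⟩
    have := hEn u⁻¹ (U.inv_mem hu) _ he
    simpa [mul_assoc] using this
  have hy' : y ∈ ((U : Set G) * (E : Set G)) := by
    rw [← coe_mul_of_left_le_normalizer_right U E hUN]; exact hyP
  obtain ⟨u, hu, e, he, rfl⟩ := Set.mem_mul.mp hy'
  refine ⟨e, he, fun heU => hyU (mem_subgroupOf.mpr (U.mul_mem hu heU)), fun x hx => ?_⟩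
  have hx' : u * x * u⁻¹ ∈ U := U.mul_mem (U.mul_mem hu hx) (U.inv_mem hu)
  have h1 := (mem_normalizer_iff''.mp hyN ⟨_, le_sup_left (b := E) hx'⟩).mp
    (mem_subgroupOf.mpr hx')
  rw [mem_subgroupOf] at h1
  simpa [mul_assoc] using h1

namespace Data

variable {z : G} {E : Subgroup G}

/-- The orbit term vanishes. -/
theorem term_eq_one (d : Data z E) (hA : ∀ a : A, a * a = 1) {S U : Subgroup G}
    (hS : IsPGroup 2 S) (hSH : S ≤ centralizer ({z} : Set G)) (hES : E ≤ S) (hUS : U ≤ S)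
    (hzU : z ∈ U) (hEU : ¬ E ≤ U) {f : G → A} (hf : HomOn f U)
    (h1 : ∀ e ∈ E, (∀ x ∈ E, x ∈ U ∨ e⁻¹ * x ∈ U) → ∀ x ∈ E, x ∈ U → f x = 1)
    (h2 : ∀ e₁ ∈ E, ∀ e₂ ∈ E, (∀ x ∈ E, x ∈ U ∨ e₁⁻¹ * x ∈ U ∨ e₂⁻¹ * x ∈ U ∨
      e₁⁻¹ * (e₂⁻¹ * x) ∈ U) → f z = 1)
    {h : G} (hh : h ∈ S) : tr U S f h = 1 := by
  have hnS : ∀ u ∈ S, ∀ e ∈ E, u * e * u⁻¹ ∈ E := fun u hu => d.normal u (hSH hu)
  have hsqU : ∀ V : Subgroup G, U ≤ V → ∀ e ∈ E, e * e ∈ V := fun V hV e he => by
    rcases d.sq he with h | h <;> rw [h]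
    · exact V.one_mem
    · exact hV hzU
  -- one stage
  have step : ∀ (V : Subgroup G) (g : G → A), U ≤ V → V ≤ S → HomOn g V → ¬ E ≤ V →
      ∃ e ∈ E, ∃ W : Subgroup G, V ≤ W ∧ W ≤ S ∧ (∀ x, x ∈ W ↔ x ∈ V ∨ e⁻¹ * x ∈ V) ∧
        (∀ x ∈ V, x⁻¹ * (e⁻¹ * x * e) ∈ V ∧ x⁻¹ * (e⁻¹ * x * e) ∈ E ∧
          tr V W g x = g (x⁻¹ * (e⁻¹ * x * e))) ∧
        tr V W g e = g (e * e) := by
    intro V g hUV hVS hg hEV
    obtain ⟨e, he, heV, hn⟩ :=
      exists_step hS hES hVS (fun u hu => hnS u (hVS hu)) hEV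
    refine ⟨e, he, stageSup V e hn (hsqU V hUV e he), fun x hx => Or.inl hx, ?_,
      fun x => mem_stageSup, ?_, ?_⟩
    · rintro x (hx | hx)
      · exact hVS hx
      · simpa using S.mul_mem (hES he) (hVS hx)
    · intro x hx
      refine ⟨V.mul_mem (V.inv_mem hx) (hn x hx), ?_, ?_⟩
      · have := E.mul_mem (hnS _ (S.inv_mem (hVS hx)) _ (E.inv_mem he)) he
        simpa [mul_assoc] using this
      · rw [(tr_two hg (W := stageSup V e hn (hsqU V hUV e he)) (fun x hx => Or.inl hx)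
          (Or.inr (by simp [V.one_mem])) heV fun x hx => hx).1 x hx (hn x hx),
          mul_self_cancel hA hg hx (hn x hx)]
    · exact (tr_two hg (W := stageSup V e hn (hsqU V hUV e he)) (fun x hx => Or.inl hx)
          (Or.inr (by simp [V.one_mem])) heV fun x hx => hx).2 (hsqU V hUV e he)
  obtain ⟨e₁, he₁, U₁, hUU₁, hU₁S, hU₁, hν, hνe⟩ := step U f le_rfl hUS hf hEU
  set ν := tr U U₁ f with hνdef
  have hνU : HomOn ν U₁ := homOn_tr
  -- decomposition of elements of a stage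
  have split : ∀ (V W : Subgroup G) (g : G → A) (e : G), HomOn g W → V ≤ W → e ∈ W →
      (∀ x, x ∈ W ↔ x ∈ V ∨ e⁻¹ * x ∈ V) → (∀ x ∈ V, g x = 1) → g e = 1 → ∀ x ∈ W, g x = 1 := by
    intro V W g e hg hVW heW hW hV he x hx
    rcases (hW x).mp hx with h | h
    · exact hV x h
    · have := hg e heW _ (hVW h)
      rwa [mul_inv_cancel_left, he, hV _ h, one_mul] at this
  have he₁U : e₁ ∈ U₁ := (hU₁ e₁).mpr (Or.inr (by simp [U.one_mem]))
  by_cases hE1 : E ≤ U₁
  · have hD : ∀ x ∈ E, x ∈ U → f x = 1 := h1 e₁ he₁ fun x hx => (hU₁ x).mp (hE1 hx)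
    refine tr_eq_one_of_stage hUU₁ hU₁S hf (split U U₁ ν e₁ hνU hUU₁ he₁U hU₁ ?_ ?_) hh
    · intro x hx
      obtain ⟨hU', hE', heq⟩ := hν x hx
      rw [heq, hD _ hE' hU']
    · rw [hνe]
      rcases d.sq he₁ with h | h <;> rw [h]
      · exact hf.map_one
      · exact hD z d.mem hzU
  -- values of `ν` on elements of `E`
  have hνz : ν z = 1 := by
    rw [(hν z hzU).2.2]
    have : z⁻¹ * (e₁⁻¹ * z * e₁) = 1 := by
      rw [mul_assoc e₁⁻¹, ← d.zc (d.le he₁)]; group
    rw [this, hf.map_one]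
  have hνD : ∀ x ∈ E, x ∈ U → ν x = 1 ∨ ν x = f z := by
    intro x hxE hx
    rw [(hν x hx).2.2]
    rcases d.comm hxE he₁ with h | h
    · left; rw [show x⁻¹ * (e₁⁻¹ * x * e₁) = 1 by rw [← h]; group, hf.map_one]
    · right; rw [show x⁻¹ * (e₁⁻¹ * x * e₁) = z by rw [← h]; group]
  obtain ⟨e₂, he₂, U₂, hU₁U₂, hU₂S, hU₂, hν', hν'e⟩ :=
    step U₁ ν hUU₁ hU₁S hνU hE1
  set ν' := tr U₁ U₂ ν with hν'def
  have hν'U : HomOn ν' U₂ := homOn_tr
  have he₂U : e₂ ∈ U₂ := (hU₂ e₂).mpr (Or.inr (by simp [U₁.one_mem]))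
  have hν'e2 : ν' e₂ = 1 := by
    rw [hν'e]
    rcases d.sq he₂ with h | h <;> rw [h]
    · exact hνU.map_one
    · exact hνz
  have hν'D : ∀ x ∈ E, x ∈ U₁ → ν' x = 1 := by
    intro x hxE hx
    rw [(hν' x hx).2.2]
    rcases d.comm hxE he₂ with h | h
    · rw [show x⁻¹ * (e₂⁻¹ * x * e₂) = 1 by rw [← h]; group, hνU.map_one]
    · rw [show x⁻¹ * (e₂⁻¹ * x * e₂) = z by rw [← h]; group, hνz]
  rw [tr_trans hUU₁ hU₁S hf hh]
  by_cases hE2 : E ≤ U₂
  · have hfz : f z = 1 := h2 e₁ he₁ e₂ he₂ fun x hx => by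
      rcases (hU₂ x).mp (hE2 hx) with h | h <;> rcases (hU₁ _).mp h with h' | h'
      · exact Or.inl h'
      · exact Or.inr (Or.inl h')
      · exact Or.inr (Or.inr (Or.inl h'))
      · exact Or.inr (Or.inr (Or.inr h'))
    have hνE : ∀ x ∈ E, x ∈ U₁ → ν x = 1 := by
      intro x hxE hx
      rcases (hU₁ x).mp hx with h | h
      · rcases hνD x hxE h with h' | h' <;> rw [h']
        exact hfz
      · have h' := hνU e₁ he₁U _ (hUU₁ h)
        rw [mul_inv_cancel_left] at h'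
        rw [h', hνe]
        have e1 : f (e₁ * e₁) = 1 := by
          rcases d.sq he₁ with h | h <;> rw [h]
          · exact hf.map_one
          · exact hfz
        rw [e1, one_mul]
        rcases hνD _ (E.mul_mem (E.inv_mem he₁) hxE) h with h' | h' <;> rw [h']
        exact hfz
    refine tr_eq_one_of_stage hU₁U₂ hU₂S hνU (split U₁ U₂ ν' e₂ hν'U hU₁U₂ he₂U hU₂ ?_ hν'e2) hh
    intro x hx
    obtain ⟨hU', hE', heq⟩ := hν' x hx
    rw [heq, hνE _ hE' hU']
  rw [tr_trans hU₁U₂ hU₂S hνU hh]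
  obtain ⟨e₃, he₃, U₃, hU₂U₃, hU₃S, hU₃, hν'', hν''e⟩ :=
    step U₂ ν' (hUU₁.trans hU₁U₂) hU₂S hν'U hE2
  have hν'E : ∀ x ∈ E, x ∈ U₂ → ν' x = 1 := by
    intro x hxE hx
    rcases (hU₂ x).mp hx with h | h
    · exact hν'D x hxE h
    · have h' := hν'U e₂ he₂U _ (hU₁U₂ h)
      rw [mul_inv_cancel_left, hν'e2, hν'D _ (E.mul_mem (E.inv_mem he₂) hxE) h, one_mul] at h'
      exact h'
  refine tr_eq_one_of_stage hU₂U₃ hU₃S hν'U
    (split U₂ U₃ _ e₃ homOn_tr hU₂U₃ ((hU₃ e₃).mpr (Or.inr (by simp [U₂.one_mem]))) hU₃ ?_ ?_) hh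
  · intro x hx
    obtain ⟨hU', hE', heq⟩ := hν'' x hx
    rw [heq, hν'E _ hE' hU']
  · rw [hν''e]
    exact hν'E _ (E.mul_mem he₃ he₃) (hsqU U₂ (hUU₁.trans hU₁U₂) e₃ he₃)

/-- If `z` is not in `U` the orbit term vanishes. -/
theorem term_eq_one_of_notMem (d : Data z E) (hA : ∀ a : A, a * a = 1) {S U : Subgroup G}
    (hSH : S ≤ centralizer ({z} : Set G)) (hES : E ≤ S) (hUS : U ≤ S)
    (hzU : z ∉ U) {f : G → A} (hf : HomOn f U) {h : G} (hh : h ∈ S) : tr U S f h = 1 := by
  have hn' : ∀ x ∈ U, z⁻¹ * x * z = x := fun x hx => by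
    rw [mul_assoc, d.zc (hSH (hUS hx)), inv_mul_cancel_left]
  have hn : ∀ x ∈ U, z⁻¹ * x * z ∈ U := fun x hx => by rw [hn' x hx]; exact hx
  have he : z * z ∈ U := by rw [d.z2]; exact U.one_mem
  have hzW : z ∈ stageSup U z hn he := Or.inr (by simp [U.one_mem])
  refine tr_eq_one_of_stage (W := stageSup U z hn he) (fun x hx => Or.inl hx) ?_ hf ?_ hh
  · rintro x (hx | hx)
    · exact hUS hx
    · simpa using S.mul_mem (hES d.mem) (hUS hx)
  have h2 := tr_two hf (W := stageSup U z hn he) (fun x hx => Or.inl hx) hzW hzU fun x hx => hx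
  have hU : ∀ x ∈ U, tr U (stageSup U z hn he) f x = 1 := fun x hx => by
    rw [h2.1 x hx (hn x hx), hn' x hx, hA]
  rintro x (hx | hx)
  · exact hU x hx
  · have := homOn_tr (U := U) (V := stageSup U z hn he) (f := f) z hzW _ (Or.inl hx)
    rw [mul_inv_cancel_left, h2.2 he, d.z2, hf.map_one, hU _ hx, one_mul] at this
    exact this

/-- The main statement: the character vanishes on every two-element. -/
theorem char_eq_one (d : Data z E) (hres : Cfsg.pResidual 2 G = ⊤) (hA : ∀ a : A, a * a = 1)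
    (φ : centralizer ({z} : Set G) →* A)
    (h1 : ∀ g : G, g * z * g⁻¹ ≠ z → (g * z * g⁻¹) * z = z * (g * z * g⁻¹) → ∀ e ∈ E,
      (∀ x ∈ E, x * (g * z * g⁻¹) = (g * z * g⁻¹) * x ∨
        (e⁻¹ * x) * (g * z * g⁻¹) = (g * z * g⁻¹) * (e⁻¹ * x)) →
      ∀ x ∈ E, x * (g * z * g⁻¹) = (g * z * g⁻¹) * x →
        ∀ hx : g⁻¹ * x * g ∈ centralizer ({z} : Set G), φ ⟨_, hx⟩ = 1)
    (h2 : ∀ g : G, g * z * g⁻¹ ≠ z → (g * z * g⁻¹) * z = z * (g * z * g⁻¹) → ∀ e₁ ∈ E, ∀ e₂ ∈ E,
      (∀ x ∈ E, x * (g * z * g⁻¹) = (g * z * g⁻¹) * x ∨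
        (e₁⁻¹ * x) * (g * z * g⁻¹) = (g * z * g⁻¹) * (e₁⁻¹ * x) ∨
        (e₂⁻¹ * x) * (g * z * g⁻¹) = (g * z * g⁻¹) * (e₂⁻¹ * x) ∨
        (e₁⁻¹ * (e₂⁻¹ * x)) * (g * z * g⁻¹) = (g * z * g⁻¹) * (e₁⁻¹ * (e₂⁻¹ * x))) →
      ∀ hx : g⁻¹ * z * g ∈ centralizer ({z} : Set G), φ ⟨_, hx⟩ = 1)
    (h : centralizer ({z} : Set G)) (hh : ∃ k, orderOf h = 2 ^ k) : φ h = 1 := by
  classical
  have : Fact (Nat.Prime 2) := ⟨Nat.prime_two⟩
  -- a Sylow subgroup of `(centralizer ({z} : Set G))` containing `h` and `E`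
  have hzp : IsPGroup 2 (zpowers h) := by
    obtain ⟨k, hk⟩ := hh
    exact IsPGroup.of_card (n := k) (by rw [Nat.card_zpowers, hk])
  obtain ⟨P, hP⟩ := hzp.exists_le_sylow
  have hEP : E.subgroupOf (centralizer ({z} : Set G)) ≤ (P : Subgroup (centralizer ({z} : Set G))) := by
    have hn : (E.subgroupOf (centralizer ({z} : Set G))).Normal := ⟨fun x hx g => by
      rw [mem_subgroupOf] at hx ⊢
      exact d.normal g g.2 x hx⟩
    have h2 : IsPGroup 2 (E.subgroupOf (centralizer ({z} : Set G))) :=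
      d.ext.1.1.of_equiv (Subgroup.subgroupOfEquivOfLe d.le).symm
    have h3 : IsPGroup 2 ((P : Subgroup (centralizer ({z} : Set G))) ⊔ E.subgroupOf (centralizer ({z} : Set G)) : Subgroup (centralizer ({z} : Set G))) :=
      P.isPGroup'.to_sup_of_normal_right h2
    exact le_sup_right.trans (P.is_maximal' h3 le_sup_left).le
  set S : Subgroup G := (P : Subgroup (centralizer ({z} : Set G))).map (centralizer ({z} : Set G)).subtype with hSdef
  have hS2 : IsPGroup 2 S := P.isPGroup'.map (centralizer ({z} : Set G)).subtype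
  have hSH : S ≤ (centralizer ({z} : Set G)) := map_subtype_le _
  have hES : E ≤ S := fun e he => ⟨⟨e, d.le he⟩, hEP (mem_subgroupOf.mpr he), rfl⟩
  have hhS : (h : G) ∈ S := ⟨h, hP (mem_zpowers h), rfl⟩
  let f : G → A := fun x => if hx : x ∈ (centralizer ({z} : Set G)) then φ ⟨x, hx⟩ else 1
  have hfφ : ∀ x : (centralizer ({z} : Set G)), f x = φ x := fun x => dif_pos x.2
  have hVone : MonoidHom.transfer φ (h : G) = 1 := by
    have hA2 : IsPGroup 2 A := fun a => ⟨1, by rw [pow_one, pow_two, hA]⟩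
    have := Fusion.pResidual_le_ker (MonoidHom.transfer φ) hA2
    rw [hres] at this
    exact MonoidHom.mem_ker.mp (this (mem_top (h : G)))
  rw [← hfφ, ← transfer_eq_self hSH φ f hfφ hhS ?_, hVone]
  intro g hg
  set w := g * z * g⁻¹ with hwdef
  set U := S ⊓ (centralizer ({z} : Set G)).comap (MulAut.conj g⁻¹).toMonoidHom with hUdef
  have hiff : ∀ x, g⁻¹ * x * g ∈ (centralizer ({z} : Set G)) ↔ x * w = w * x := fun x => by
    rw [mem_centralizer_singleton_iff]
    constructor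
    · intro hx
      calc x * w = g * (g⁻¹ * x * g * z) * g⁻¹ := by rw [hwdef]; group
        _ = g * (z * (g⁻¹ * x * g)) * g⁻¹ := by rw [hx]
        _ = w * x := by rw [hwdef]; group
    · intro hx
      calc g⁻¹ * x * g * z = g⁻¹ * (x * w) * g := by rw [hwdef]; group
        _ = g⁻¹ * (w * x) * g := by rw [hx]
        _ = z * (g⁻¹ * x * g) := by rw [hwdef]; group
  have hU : ∀ x, x ∈ U ↔ x ∈ S ∧ g⁻¹ * x * g ∈ (centralizer ({z} : Set G)) := fun x => by
    simp [hUdef, Subgroup.mem_inf]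
  have hUE : ∀ x ∈ E, (x ∈ U ↔ x * w = w * x) := fun x hx => by
    rw [hU, hiff]; exact and_iff_right (hES hx)
  have hfU : HomOn (fun x => f (g⁻¹ * x * g)) U := by
    intro a ha b hb
    have ha' := ((hU a).mp ha).2
    have hb' := ((hU b).mp hb).2
    show f _ = f _ * f _
    rw [show g⁻¹ * (a * b) * g = ((⟨_, ha'⟩ * ⟨_, hb'⟩ : (centralizer ({z} : Set G))) : G) by
      show g⁻¹ * (a * b) * g = g⁻¹ * a * g * (g⁻¹ * b * g)
      group, hfφ, map_mul, ← hfφ, ← hfφ]
  by_cases hzw : z * w = w * z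
  swap
  · exact d.term_eq_one_of_notMem hA hSH hES inf_le_left
      (fun hz => hzw ((hUE z d.mem).mp hz)) hfU hhS
  have hwH : w ∈ (centralizer ({z} : Set G)) := mem_centralizer_singleton_iff.mpr hzw.symm
  have hwz : w ≠ z := fun h => hg (by
    rw [mem_centralizer_singleton_iff]
    calc g * z = w * g := by rw [hwdef]; group
      _ = z * g := by rw [h])
  refine d.term_eq_one hA hS2 hSH hES inf_le_left ((hUE z d.mem).mpr hzw) (fun hEU => ?_) hfU
    (fun e he hcov x hxE hxU => ?_) (fun e₁ he₁ e₂ he₂ hcov => ?_) hhS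
  · have hwE : w ∈ E := d.cent (mem_centralizer_iff.mpr fun x hx => (hUE x hx).mp (hEU hx))
    rcases d.central hwE (fun x hx => (hUE x hx).mp (hEU hx)) with h | h
    · exact d.z1 (conj_eq_one_iff.mp h)
    · exact hwz h
  · have hx' := ((hU x).mp hxU).2
    show f _ = 1
    rw [show g⁻¹ * x * g = ((⟨_, hx'⟩ : (centralizer ({z} : Set G))) : G) from rfl, hfφ]
    refine h1 g hwz hzw.symm e he (fun y hy => ?_) x hxE ((hUE x hxE).mp hxU) hx'
    exact (hcov y hy).imp (hUE y hy).mp (hUE _ (E.mul_mem (E.inv_mem he) hy)).mp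
  · have hx' := ((hU z).mp ((hUE z d.mem).mpr hzw)).2
    show f _ = 1
    rw [show g⁻¹ * z * g = ((⟨_, hx'⟩ : (centralizer ({z} : Set G))) : G) from rfl, hfφ]
    refine h2 g hwz hzw.symm e₁ he₁ e₂ he₂ (fun y hy => ?_) hx'
    exact (hcov y hy).imp (hUE y hy).mp (Or.imp (hUE _ (E.mul_mem (E.inv_mem he₁) hy)).mp
      (Or.imp (hUE _ (E.mul_mem (E.inv_mem he₂) hy)).mp
        (hUE _ (E.mul_mem (E.inv_mem he₁) (E.mul_mem (E.inv_mem he₂) hy))).mp))

end Data

end Cfsg.Agent.Extra2
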