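import Mathlib

/-!
Transfer between subgroups of one group, for functions that are multiplicative on the source.
-/

set_option autoImplicit false

namespace Cfsg.Agent.Extra2

open Subgroup MulAction

variable {G A : Type*} [Group G] [Finite G] [CommGroup A]

/-- `f` is multiplicative on `U`. -/
def HomOn (f : G → A) (U : Subgroup G) : Prop := ∀ a ∈ U, ∀ b ∈ U, f (a * b) = f a * f b

omit [Finite G] in
theorem HomOn.map_one {f : G → A} {U : Subgroup G} (h : HomOn f U) : f 1 = 1 := by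
  have := h 1 U.one_mem 1 U.one_mem
  rwa [one_mul, left_eq_mul] at this

omit [Finite G] in
theorem HomOn.map_inv {f : G → A} {U : Subgroup G} (h : HomOn f U) {a : G} (ha : a ∈ U) :
    f a⁻¹ = (f a)⁻¹ := by
  have := h a ha a⁻¹ (U.inv_mem ha)
  rw [mul_inv_cancel, h.map_one] at this
  exact eq_inv_of_mul_eq_one_right this.symm

/-- `f` as a homomorphism. -/
def homOn (f : G → A) (U V : Subgroup G) (h : HomOn f U) : U.subgroupOf V →* A :=
  MonoidHom.mk' (fun x => f ((x : V) : G)) fun a b =>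
    h _ (mem_subgroupOf.mp a.2) _ (mem_subgroupOf.mp b.2)

open Classical in
/-- Transfer from `V` to `U` of `f`, extended by `1`. -/
noncomputable def tr (U V : Subgroup G) (f : G → A) : G → A := fun v =>
  if h : v ∈ V ∧ HomOn f U then MonoidHom.transfer (homOn f U V h.2) ⟨v, h.1⟩ else 1

theorem transfer_eq_section {H : Subgroup G} [Fintype (G ⧸ H)] (φ : H →* A) (f : G → A)
    (hf : ∀ x : H, f x = φ x) (s : G ⧸ H → G) (hs : ∀ q : G ⧸ H, (s q : G ⧸ H) = q) (g : G) :
    MonoidHom.transfer φ g = ∏ q : G ⧸ H, f ((s (g • q))⁻¹ * g * s q) := by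
  classical
  let T : H.LeftTransversal := ⟨Set.range s, isComplement_range_left hs⟩
  rw [MonoidHom.transfer_def φ T g]
  unfold Subgroup.leftTransversals.diff
  dsimp only
  symm
  rw [Subsingleton.elim (fintypeQuotientOfFiniteIndex (H := H)) ‹Fintype (G ⧸ H)›]
  refine Fintype.prod_equiv (MulAction.toPerm g) _ _ fun q => ?_
  rw [← hf]
  congr 1
  rw [MulAction.toPerm_apply]
  simp only [smul_apply_eq_smul_apply_inv_smul, smul_eq_mul, inv_smul_smul]
  rw [IsComplement.leftQuotientEquiv_apply hs, IsComplement.leftQuotientEquiv_apply hs, mul_assoc]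

theorem tr_eq {U V : Subgroup G} [Fintype (V ⧸ U.subgroupOf V)] {f : G → A} (hf : HomOn f U)
    {v : G} (hv : v ∈ V) (s : V ⧸ U.subgroupOf V → V)
    (hs : ∀ q : V ⧸ U.subgroupOf V, (s q : V ⧸ U.subgroupOf V) = q) :
    tr U V f v = ∏ q : V ⧸ U.subgroupOf V,
      f (((s ((⟨v, hv⟩ : V) • q) : V) : G)⁻¹ * v * ((s q : V) : G)) := by
  rw [tr, dif_pos ⟨hv, hf⟩, transfer_eq_section (homOn f U V hf) (fun x : V => f x) (fun _ => rfl) s hs]
  rfl

theorem homOn_tr {U V : Subgroup G} {f : G → A} : HomOn (tr U V f) V := by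
  intro a ha b hb
  by_cases hf : HomOn f U
  · rw [tr, dif_pos ⟨V.mul_mem ha hb, hf⟩, tr, dif_pos ⟨ha, hf⟩, tr, dif_pos ⟨hb, hf⟩, ← map_mul]
    rfl
  · rw [tr, dif_neg (fun h => hf h.2), tr, dif_neg (fun h => hf h.2), tr,
      dif_neg (fun h => hf h.2), one_mul]

/-- Transitivity. -/
theorem tr_trans {U W V : Subgroup G} (hUW : U ≤ W) (hWV : W ≤ V) {f : G → A} (hf : HomOn f U)
    {v : G} (hv : v ∈ V) : tr U V f v = tr W V (tr U W f) v := by
  classical
  have := Fintype.ofFinite (V ⧸ U.subgroupOf V)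
  have := Fintype.ofFinite (V ⧸ W.subgroupOf V)
  have := Fintype.ofFinite (W ⧸ U.subgroupOf W)
  let F : (V ⧸ W.subgroupOf V) × (W ⧸ U.subgroupOf W) → V := fun pr =>
    pr.1.out * ⟨(pr.2.out : W), hWV pr.2.out.2⟩
  have hF : ∀ a b : V, (a : V ⧸ U.subgroupOf V) = b ↔ (a : G)⁻¹ * b ∈ U := fun a b =>
    QuotientGroup.eq.trans mem_subgroupOf
  let e : (V ⧸ W.subgroupOf V) × (W ⧸ U.subgroupOf W) ≃ (V ⧸ U.subgroupOf V) :=
    Equiv.ofBijective (fun pr => (F pr : V ⧸ U.subgroupOf V)) ⟨by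
      rintro ⟨p, r⟩ ⟨p', r'⟩ h
      have h' := (hF _ _).mp h
      simp only [F, Subgroup.coe_mul, mul_inv_rev] at h'
      have hp : p = p' := by
        rw [← QuotientGroup.out_eq' p, ← QuotientGroup.out_eq' p', QuotientGroup.eq, mem_subgroupOf]
        have := W.mul_mem (W.mul_mem r.out.2 (hUW h')) (W.inv_mem r'.out.2)
        simpa [mul_assoc] using this
      subst hp
      have : r = r' := by
        rw [← QuotientGroup.out_eq' r, ← QuotientGroup.out_eq' r', QuotientGroup.eq, mem_subgroupOf]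
        simpa [mul_assoc] using h'
      rw [this], fun q => by
      obtain ⟨x, rfl⟩ := QuotientGroup.mk_surjective q
      set p : V ⧸ W.subgroupOf V := (x : V ⧸ W.subgroupOf V) with hp
      have hw : (p.out : G)⁻¹ * (x : G) ∈ W := by
        have := QuotientGroup.eq.mp ((QuotientGroup.out_eq' p).trans hp)
        simpa [mem_subgroupOf] using this
      set r : W ⧸ U.subgroupOf W := ((⟨_, hw⟩ : W) : W ⧸ U.subgroupOf W) with hr
      refine ⟨(p, r), (hF _ _).mpr ?_⟩
      have := QuotientGroup.eq.mp ((QuotientGroup.out_eq' r).trans hr)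
      simpa [mem_subgroupOf, F, mul_assoc] using this⟩
  let s : V ⧸ U.subgroupOf V → V := fun q => F (e.symm q)
  have hs : ∀ q, (s q : V ⧸ U.subgroupOf V) = q := fun q => e.apply_symm_apply q
  rw [tr_eq hf hv s hs, ← e.prod_comp, Fintype.prod_prod_type,
    tr_eq homOn_tr hv (fun p => p.out) QuotientGroup.out_eq']
  refine Fintype.prod_congr _ _ fun p => ?_
  set w : G := ((((⟨v, hv⟩ : V) • p).out : V) : G)⁻¹ * v * (p.out : V) with hw
  have hwW : w ∈ W := by
    have h1 : ((⟨v, hv⟩ : V) • p) = ((⟨v, hv⟩ * p.out : V) : V ⧸ W.subgroupOf V) := by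
      conv_lhs => rw [← QuotientGroup.out_eq' p]
      rfl
    have := QuotientGroup.eq.mp ((QuotientGroup.out_eq' _).trans h1)
    simpa [mem_subgroupOf, hw, mul_assoc] using this
  rw [tr_eq hf hwW (fun r => r.out) QuotientGroup.out_eq']
  refine Fintype.prod_congr _ _ fun r => ?_
  have he : (⟨v, hv⟩ : V) • e (p, r) = e ((⟨v, hv⟩ : V) • p, (⟨w, hwW⟩ : W) • r) := by
    show (((⟨v, hv⟩ : V) * F (p, r) : V) : V ⧸ U.subgroupOf V) = _
    refine (hF _ _).mpr ?_
    have h2 : ((⟨w, hwW⟩ : W) • r) = ((⟨w, hwW⟩ * r.out : W) : W ⧸ U.subgroupOf W) := by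
      conv_lhs => rw [← QuotientGroup.out_eq' r]
      rfl
    have := QuotientGroup.eq.mp (h2.symm.trans (QuotientGroup.out_eq' _).symm)
    simpa [mem_subgroupOf, F, hw, mul_assoc] using this
  simp only [s, he, Equiv.symm_apply_apply, F]
  congr 1
  simp [hw, mul_assoc]

/-- The transfer of `φ` at `h ∈ S ≤ H` is `φ h` if all nontrivial orbit terms vanish. -/
theorem transfer_eq_self {H S : Subgroup G} (hSH : S ≤ H) (φ : H →* A) (f : G → A)
    (hfφ : ∀ x : H, f x = φ x) {h : G} (hh : h ∈ S)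
    (hterm : ∀ g : G, g ∉ H →
      tr (S ⊓ H.comap (MulAut.conj g⁻¹).toMonoidHom) S (fun x => f (g⁻¹ * x * g)) h = 1) :
    MonoidHom.transfer φ h = f h := by
  classical
  have := Fintype.ofFinite (G ⧸ H)
  let Ω := orbitRel.Quotient S (G ⧸ H)
  have := Fintype.ofFinite Ω
  let g₀ : Ω → G := fun o => o.out.out
  have hg₀ : ∀ o : Ω, (g₀ o : G ⧸ H) = o.out := fun o => QuotientGroup.out_eq' _
  let Uo : Ω → Subgroup G := fun o => S ⊓ H.comap (MulAut.conj (g₀ o)⁻¹).toMonoidHom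
  have hUo : ∀ (o : Ω) (x : G), x ∈ Uo o ↔ x ∈ S ∧ (g₀ o)⁻¹ * x * g₀ o ∈ H := fun o x => by
    simp [Uo, Subgroup.mem_inf]
  have := fun o => Fintype.ofFinite (S ⧸ (Uo o).subgroupOf S)
  let F : (Σ o : Ω, S ⧸ (Uo o).subgroupOf S) → G := fun a => (a.2.out : G) * g₀ a.1
  have hFact : ∀ (o : Ω) (x : S), (((x : G) * g₀ o : G) : G ⧸ H) = x • o.out := fun o x => by
    rw [← hg₀]; rfl
  let E : (Σ o : Ω, S ⧸ (Uo o).subgroupOf S) ≃ G ⧸ H :=
    Equiv.ofBijective (fun a => (F a : G ⧸ H)) ⟨by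
      rintro ⟨o, r⟩ ⟨o', r'⟩ he
      have he' : r.out • o.out = r'.out • o'.out := by
        rw [← hFact, ← hFact]; exact he
      have ho : o = o' := by
        rw [← Quotient.out_eq o, ← Quotient.out_eq o']
        refine Quotient.sound (orbitRel_apply.mpr ⟨r.out⁻¹ * r'.out, ?_⟩)
        show (r.out⁻¹ * r'.out) • o'.out = o.out
        rw [mul_smul, ← he', inv_smul_smul]
      subst ho
      have hr : r = r' := by
        rw [← QuotientGroup.out_eq' r, ← QuotientGroup.out_eq' r', QuotientGroup.eq, mem_subgroupOf,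
          hUo]
        refine ⟨(r.out⁻¹ * r'.out).2, ?_⟩
        have := QuotientGroup.eq.mp he
        simpa [F, mul_assoc] using this
      rw [hr], fun q => by
      set o : Ω := Quotient.mk'' q with ho
      obtain ⟨x, hx⟩ : ∃ x : S, x • o.out = q := by
        have h1 : orbitRel S (G ⧸ H) q o.out := Quotient.exact' (Quotient.out_eq' o).symm
        obtain ⟨x, hx⟩ := orbitRel_apply.mp h1
        exact ⟨x, hx⟩
      set r : S ⧸ (Uo o).subgroupOf S := (x : S ⧸ (Uo o).subgroupOf S) with hr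
      refine ⟨⟨o, r⟩, ?_⟩
      have h2 := QuotientGroup.eq.mp ((QuotientGroup.out_eq' r).trans hr)
      rw [mem_subgroupOf, hUo] at h2
      rw [← hx, ← hFact]
      refine QuotientGroup.eq.mpr ?_
      simpa [F, mul_assoc] using h2.2⟩
  let s : G ⧸ H → G := fun q => F (E.symm q)
  have hs : ∀ q, (s q : G ⧸ H) = q := fun q => E.apply_symm_apply q
  have hfU : ∀ o : Ω, HomOn (fun x => f ((g₀ o)⁻¹ * x * g₀ o)) (Uo o) := by
    intro o a ha b hb
    have ha' := ((hUo o a).mp ha).2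
    have hb' := ((hUo o b).mp hb).2
    show f _ = f _ * f _
    rw [show (g₀ o)⁻¹ * (a * b) * g₀ o = (g₀ o)⁻¹ * a * g₀ o * ((g₀ o)⁻¹ * b * g₀ o) by group]
    rw [show (g₀ o)⁻¹ * a * g₀ o * ((g₀ o)⁻¹ * b * g₀ o) =
      ((⟨_, ha'⟩ * ⟨_, hb'⟩ : H) : G) from rfl, hfφ, map_mul, ← hfφ, ← hfφ]
  rw [transfer_eq_section φ f hfφ s hs h, ← E.prod_comp, Fintype.prod_sigma]
  have hterms : ∀ o : Ω, (∏ r : S ⧸ (Uo o).subgroupOf S,
      f ((s (h • E ⟨o, r⟩))⁻¹ * h * s (E ⟨o, r⟩))) =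
        tr (Uo o) S (fun x => f ((g₀ o)⁻¹ * x * g₀ o)) h := by
    intro o
    rw [tr_eq (hfU o) hh (fun r => r.out) QuotientGroup.out_eq']
    refine Fintype.prod_congr _ _ fun r => ?_
    have he : h • E ⟨o, r⟩ = E ⟨o, (⟨h, hh⟩ : S) • r⟩ := by
      show ((h * F ⟨o, r⟩ : G) : G ⧸ H) = _
      refine QuotientGroup.eq.mpr ?_
      have h2 : ((⟨h, hh⟩ : S) • r) = ((⟨h, hh⟩ * r.out : S) : S ⧸ (Uo o).subgroupOf S) := by
        conv_lhs => rw [← QuotientGroup.out_eq' r]
        rfl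
      have := QuotientGroup.eq.mp (h2.symm.trans (QuotientGroup.out_eq' _).symm)
      rw [mem_subgroupOf, hUo] at this
      simpa [F, mul_assoc] using this.2
    have hsE : ∀ a, s (E a) = F a := fun a => congrArg F (E.symm_apply_apply a)
    rw [he, hsE, hsE]
    simp only [F]
    congr 1
    group
  simp only [hterms]
  -- the orbit of the trivial coset
  let o₁ : Ω := Quotient.mk'' ((1 : G) : G ⧸ H)
  have hout : o₁.out = ((1 : G) : G ⧸ H) := by
    obtain ⟨x, hx⟩ := orbitRel_apply.mp (Quotient.exact' (Quotient.out_eq' o₁) :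
      orbitRel S (G ⧸ H) o₁.out ((1 : G) : G ⧸ H))
    rw [← hx]
    exact QuotientGroup.eq.mpr (by simpa using hSH x.2)
  rw [Fintype.prod_eq_single o₁]
  · have hgH : g₀ o₁ ∈ H := by
      have := QuotientGroup.eq.mp ((hg₀ o₁).trans hout)
      simpa using this
    have htop : (Uo o₁).subgroupOf S = ⊤ := by
      rw [eq_top_iff]
      intro x _
      rw [mem_subgroupOf, hUo]
      exact ⟨x.2, H.mul_mem (H.mul_mem (H.inv_mem hgH) (hSH x.2)) hgH⟩
    have : Subsingleton (S ⧸ (Uo o₁).subgroupOf S) := by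
      rw [htop]; exact QuotientGroup.subsingleton_quotient_top
    rw [tr_eq (hfU o₁) hh (fun _ => 1) (fun q => Subsingleton.elim _ _),
      Fintype.prod_subsingleton _ (QuotientGroup.mk 1)]
    simp only [OneMemClass.coe_one, inv_one, one_mul, mul_one]
    rw [show (g₀ o₁)⁻¹ * h * g₀ o₁ =
        (((⟨g₀ o₁, hgH⟩ : H)⁻¹ * ⟨h, hSH hh⟩ * ⟨g₀ o₁, hgH⟩ : H) : G) from rfl, hfφ, map_mul,
      map_mul, map_inv, mul_right_comm, inv_mul_cancel, one_mul, ← hfφ]
  · intro o ho
    refine hterm (g₀ o) fun hgH => ho ?_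
    rw [← Quotient.out_eq' o]
    show Quotient.mk'' o.out = o₁
    congr 1
    rw [← hg₀]
    exact QuotientGroup.eq.mpr (by simpa using hgH)

/-- One step with index two. -/
theorem tr_two {U W : Subgroup G} {f : G → A} (hf : HomOn f U) (hUW : U ≤ W) {e : G} (heW : e ∈ W)
    (heU : e ∉ U) (hW : ∀ x ∈ W, x ∈ U ∨ e⁻¹ * x ∈ U) :
    (∀ x ∈ U, e⁻¹ * x * e ∈ U → tr U W f x = f x * f (e⁻¹ * x * e)) ∧
      (e * e ∈ U → tr U W f e = f (e * e)) := by
  classical
  have := Fintype.ofFinite (W ⧸ U.subgroupOf W)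
  let q1 : W ⧸ U.subgroupOf W := ((1 : W) : W ⧸ U.subgroupOf W)
  let qe : W ⧸ U.subgroupOf W := ((⟨e, heW⟩ : W) : W ⧸ U.subgroupOf W)
  have hiff : ∀ a b : W, (a : W ⧸ U.subgroupOf W) = b ↔ (a : G)⁻¹ * b ∈ U := fun a b =>
    QuotientGroup.eq.trans mem_subgroupOf
  have hne : q1 ≠ qe := fun h => heU (by simpa using (hiff _ _).mp h)
  have hcases : ∀ q, q = q1 ∨ q = qe := by
    intro q
    obtain ⟨x, rfl⟩ := QuotientGroup.mk_surjective q
    rcases hW x x.2 with h | h
    · exact Or.inl ((hiff _ _).mpr (by simpa using U.inv_mem h))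
    · exact Or.inr ((hiff _ _).mpr (by simpa using U.inv_mem h))
  let s : W ⧸ U.subgroupOf W → W := fun q => if q = q1 then 1 else ⟨e, heW⟩
  have hs1 : s q1 = 1 := if_pos rfl
  have hse : s qe = ⟨e, heW⟩ := if_neg (Ne.symm hne)
  have hs : ∀ q, (s q : W ⧸ U.subgroupOf W) = q := fun q => by
    rcases hcases q with rfl | rfl
    · rw [hs1]
    · rw [hse]
  have huniv : (Finset.univ : Finset (W ⧸ U.subgroupOf W)) = {q1, qe} := by
    ext q; simpa using hcases q
  refine ⟨fun x hx hxe => ?_, fun he => ?_⟩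
  · rw [tr_eq hf (hUW hx) s hs, huniv, Finset.prod_pair hne]
    have e1 : (⟨x, hUW hx⟩ : W) • q1 = q1 := by
      show ((_ * 1 : W) : W ⧸ U.subgroupOf W) = q1
      exact (hiff _ _).mpr (by simpa using U.inv_mem hx)
    have e2 : (⟨x, hUW hx⟩ : W) • qe = qe := by
      show ((_ * ⟨e, heW⟩ : W) : W ⧸ U.subgroupOf W) = qe
      refine (hiff _ _).mpr ?_
      simpa [mul_assoc] using U.inv_mem hxe
    rw [e1, e2, hs1, hse]
    simp
  · rw [tr_eq hf heW s hs, huniv, Finset.prod_pair hne]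
    have e1 : (⟨e, heW⟩ : W) • q1 = qe := by
      show ((_ * 1 : W) : W ⧸ U.subgroupOf W) = qe
      rw [mul_one]
    have e2 : (⟨e, heW⟩ : W) • qe = q1 := by
      show ((_ * ⟨e, heW⟩ : W) : W ⧸ U.subgroupOf W) = q1
      exact (hiff _ _).mpr (by simpa using U.inv_mem he)
    rw [e1, e2, hs1, hse]
    simp [hf.map_one]

end Cfsg.Agent.Extra2
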